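import Cfsg.Agent.H20.FrobTits_m3
import Cfsg.Agent.H87.TitsData
import Cfsg.Agent.H403.TitsSixteen
import Cfsg.Agent.Prune
set_option linter.all false

section
prune_inst 0x7f00000000000000000000000000000000000000000000000000000000000000000000000000000000000000000000000000000000000000000000000000000000000000000000000000000000000000003fffffffffffffffffffffffffffbeffbdffffffff

-- part: H488/PBRow/TitsThree
section
set_option linter.all false
open scoped Cfsg.Agent.FastGrp

/-!
# The Tits group: the centralizers of the elements of order 3 have order 108 (helper488)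

The same argument as in `H20.FrobTits` (helper20), without the elementary abelian subgroup of order 32.
-/

set_option autoImplicit false

universe u

namespace Cfsg.Agent.H488.PBRow.TitsThree

open Subgroup Cfsg.Agent.H20.FrobReduce Cfsg.Agent.H20.FrobTools
open Cfsg.Agent.H20.FrobTits (exists_conj_mem)
open Cfsg.Agent.H20.FrobTits.TData (card_class)

/-- the data -/
structure TD (G : Type u) [Group G] where
  card : Nat.card G = 2 ^ 11 * 3 ^ 3 * 5 ^ 2 * 13
  t : G
  t3 : orderOf t = 3
  R : Subgroup G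
  cardR : Nat.card R = 27
  conjR : ∀ r ∈ R, r ≠ 1 → IsConj r t
  ncomm : ∀ a b : G, orderOf a = 3 → orderOf b = 5 → a * b ≠ b * a

variable {G : Type u} [Group G] [Finite G] (D : TD G)

namespace TD

include D

omit [Finite G] in
theorem index_R : D.R.index = 2 ^ 11 * 5 ^ 2 * 13 := by
  have h := D.R.card_mul_index
  rw [D.cardR, D.card] at h
  omega

/-- the 3-elements are conjugate to `t` -/
theorem isConj_t {y : G} {b : ℕ} (hy : y ^ 3 ^ b = 1) (hy1 : y ≠ 1) : IsConj y D.t := by
  obtain ⟨g, hg⟩ := exists_conj_mem (a := 3) Nat.prime_three (R := D.R) (by rw [D.cardR]; norm_num)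
    (by rw [D.index_R]; norm_num) hy
  have h1 := D.conjR _ hg (fun h => hy1 (conj_eq_one_iff.1 h))
  exact (isConj_iff.2 ⟨g, rfl⟩).trans h1

theorem dvd_class : 27 ∣ (centralizer ({D.t} : Set G)).index + 1 := by
  have h1 := dvd_cnt (G := G) (n := 27) (by rw [D.card]; norm_num)
  have h2 : cnt G 27 = (centralizer ({D.t} : Set G)).index + 1 := by
    rw [← card_class, ← Finite.card_option]
    unfold cnt
    symm
    have ht1 : D.t ^ 27 = 1 := by
      rw [← orderOf_dvd_iff_pow_eq_one, D.t3]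
      norm_num
    refine Nat.card_eq_of_bijective (fun o : Option {z : G // IsConj D.t z} => match o with
      | none => (⟨1, one_pow 27⟩ : {x : G // x ^ 27 = 1})
      | some z => ⟨z, by
          obtain ⟨c, hc⟩ := isConj_iff.1 z.2
          rw [← hc, conj_pow, ht1, mul_one, mul_inv_cancel]⟩) ⟨?_, ?_⟩
    · have hne : ∀ z : {z : G // IsConj D.t z}, (z : G) ≠ 1 := by
        rintro ⟨z, hz⟩ rfl
        rw [isConj_comm, isConj_one_right] at hz
        have := D.t3
        rw [hz, orderOf_one] at this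
        omega
      rintro (_ | y) (_ | z) he
      · rfl
      · exact absurd (congrArg Subtype.val he).symm (hne z)
      · exact absurd (congrArg Subtype.val he) (hne y)
      · have : (y : G) = z := congrArg (fun w : {x : G // x ^ 27 = 1} => (w : G)) he
        rw [Subtype.ext this]
    · rintro ⟨z, hz⟩
      by_cases hz1 : z = 1
      · subst hz1
        exact ⟨none, rfl⟩
      · refine ⟨some ⟨z, ?_⟩, rfl⟩
        exact (D.isConj_t (b := 3) (by rw [← hz]; norm_num) hz1).symm
  rwa [h2] at h1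

theorem cent_dvd : 27 ∣ Nat.card (centralizer ({D.t} : Set G)) := by
  have h2 : Fact (Nat.Prime 3) := ⟨Nat.prime_three⟩
  have hP : IsPGroup 3 D.R := IsPGroup.of_card (n := 3) (by rw [D.cardR]; norm_num)
  have hn : Nontrivial D.R := by
    rw [← Finite.one_lt_card_iff_nontrivial, D.cardR]
    norm_num
  have h3 := hP.center_nontrivial
  obtain ⟨z, hz⟩ := exists_ne (1 : center D.R)
  have hz1 : ((z : D.R) : G) ≠ 1 := by
    intro h
    apply hz
    exact Subtype.ext (Subtype.ext h)
  have hle : D.R ≤ centralizer ({((z : D.R) : G)} : Set G) := by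
    intro r hr
    rw [mem_cent]
    have := mem_center_iff.1 z.2 ⟨r, hr⟩
    exact congrArg Subtype.val this
  obtain ⟨c, hc⟩ := isConj_iff.1 (D.conjR _ (z : D.R).2 hz1)
  have h4 : Nat.card (centralizer ({((z : D.R) : G)} : Set G)) = Nat.card (centralizer ({D.t} : Set G)) := by
    rw [card_centralizer_congr (MulAut.conj c)]
    have : (MulAut.conj c) ((z : D.R) : G) = D.t := hc
    rw [this]
  rw [← h4, ← D.cardR]
  exact card_dvd_of_le hle

theorem not_five_dvd : ¬ 5 ∣ Nat.card (centralizer ({D.t} : Set G)) := by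
  intro h
  have : Fact (Nat.Prime 5) := ⟨by norm_num⟩
  obtain ⟨y, hy⟩ := exists_prime_orderOf_dvd_card' (G := centralizer ({D.t} : Set G)) 5 h
  have hy' : orderOf (y : G) = 5 := by rw [orderOf_coe, hy]
  exact D.ncomm _ _ D.t3 hy' (mem_cent.1 y.2).symm

theorem card_cent_t : Nat.card (centralizer ({D.t} : Set G)) = 108 := by
  obtain ⟨c, hc⟩ := D.cent_dvd
  have h5 := D.not_five_dvd
  have h1 := (centralizer ({D.t} : Set G)).card_mul_index
  have h2 := D.dvd_class
  rw [hc, D.card] at h1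
  rw [hc] at h5 ⊢
  set i := (centralizer ({D.t} : Set G)).index with hi
  have h5' : ¬ 5 ∣ c := fun h => h5 (h.mul_left 27)
  have h3 : c * i = 25 * (2 ^ 11 * 13) := by
    have : 27 * (c * i) = 27 * (25 * (2 ^ 11 * 13)) := by
      rw [← mul_assoc, h1]
      norm_num
    omega
  have hcop : Nat.Coprime c 25 := by
    have : Nat.Coprime c (5 ^ 2) := Nat.Coprime.pow_right _ (Nat.coprime_comm.1
      ((Nat.Prime.coprime_iff_not_dvd (by norm_num)).2 h5'))
    simpa using this
  have h4 : c ∣ 2 ^ 11 * 13 := hcop.dvd_of_dvd_mul_left ⟨i, h3.symm⟩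
  obtain ⟨a, b, ha, hb, rfl⟩ := (Nat.dvd_mul).1 h4
  obtain ⟨a', ha', rfl⟩ := (Nat.dvd_prime_pow Nat.prime_two).1 ha
  rcases (Nat.dvd_prime (by norm_num)).1 hb with rfl | rfl
  · interval_cases a' <;> omega
  · interval_cases a' <;> omega

/-- all elements of order 3 -/
theorem card_cent {y : G} (hy : orderOf y = 3) : Nat.card (centralizer ({y} : Set G)) = 108 := by
  have hy1 : y ≠ 1 := by
    rintro rfl
    rw [orderOf_one] at hy
    omega
  obtain ⟨c, hc⟩ := isConj_iff.1 (D.isConj_t (b := 1) (by rw [pow_one, ← hy, pow_orderOf_eq_one]) hy1)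
  rw [card_centralizer_congr (MulAut.conj c)]
  have : (MulAut.conj c) y = D.t := hc
  rw [this, D.card_cent_t]

end TD

theorem aux {X : Type} [Group X] (D : H87.TitsAbs.Dat X) (O : CpAutTits.Row.Out X) {S : Type u} [Group S] (e : S ≃* X)
    {y : S} (hy : orderOf y = 3) : Nat.card (centralizer ({y} : Set S)) = 108 := by
  have hfin : Finite X := by
    apply Nat.finite_of_card_ne_zero
    rw [O.card]
    norm_num
  have : Fact (Nat.Prime 3) := ⟨by norm_num⟩
  have D' : TD X :=
    { card := O.card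
      t := D.t
      t3 := orderOf_eq_prime D.t3 D.t1
      R := D.R
      cardR := D.card_R
      conjR := fun r hr h1 => D.R_isConj hr h1
      ncomm := O.ncomm }
  rw [card_centralizer_congr e]
  exact D'.card_cent (by rw [e.orderOf_eq, hy])

/-- **The centralizers of the elements of order 3 of the Tits group.** -/
theorem card_cent_three {S : Type u} [Group S] (h : Cfsg.Lie.IsoTits S) {y : S} (hy : orderOf y = 3) :
    Nat.card (centralizer ({y} : Set S)) = 108 := by
  obtain ⟨e⟩ := h
  obtain ⟨D⟩ := H87.TitsData.dat_tits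
  exact aux D (CpAutTits.Row.out ⟨MulEquiv.refl _⟩) e hy

end Cfsg.Agent.H488.PBRow.TitsThree
end

-- part: H631/TitsD/Words
section
set_option linter.all false
open scoped Cfsg.Agent.FastGrp

/-!
# The Tits group: elements of orders 16, 12 and an element of order 3 inverted by an involution
-/

set_option autoImplicit false

namespace Cfsg.Agent.H631.TitsD

open Cfsg.Agent.KFacts.OddLift.Basic Cfsg.Agent.KFacts.OddLift.TitMat Cfsg.Agent.KFacts.OddLift.TitGen
open Cfsg.Agent.SporadicRecognition.CosetCert Cfsg.Agent.SporadicRecognition.CosetCertHyp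
open Cfsg.Agent.ChevalleyStructure.Tits.Pack Cfsg.Agent.ChevalleyStructure.Tits.Mat
  Cfsg.Agent.ChevalleyStructure.Tits.Main Cfsg.Agent.ChevalleyStructure.Tits.Order
open Cfsg.Agent.H87.TitsData (pw ev_append ev_pw toMat_ne)

open scoped MatrixGroups

/-- the involution -/
def iw : List ℕ := [0, 6, 0, 6]
/-- a conjugate of the involution -/
def jw : List ℕ := [0, 3] ++ (iw ++ [2, 1])

/-- words of the identity -/
def rl1 : List (List ℕ) := [pw [0, 5, 6] 16, pw [0, 4, 7] 12, pw iw 2, pw (iw ++ jw) 3, pw jw 2]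

theorem rl1_ok : rl1.all (fun p => Nat.beq (evP p) oneP) = true := by decide +kernel
theorem rl1_lt : rl1.all (fun p => p.all fun y => Nat.blt y 8) = true := by decide +kernel

theorem rel1 {u : List ℕ} (h : u ∈ rl1) : ev (lt b 4) u = 1 := by
  have h1 := rl1_ok
  rw [List.all_eq_true] at h1
  have h2 := rl1_lt
  rw [List.all_eq_true] at h2
  apply Subtype.ext
  rw [coe_ev_b]
  apply Subtype.ext
  rw [coe_ev_bH]
  apply Units.ext
  rw [coe_ev (all_lt8 (h2 _ h)), Nat.eq_of_beq_eq_true (h1 _ h)]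
  exact toMat_oneP

/-- words different from the identity, with a position -/
def rl2 : List (List ℕ × Fin 48) := [(pw [0, 5, 6] 8, 8), (pw [0, 4, 7] 4, 7), (pw [0, 4, 7] 6, 3), (iw, 10), (iw ++ jw, 10)]

theorem rl2_ok : rl2.all (fun p => (evP p.1).testBit (4 + p.2)) = true := by decide +kernel
theorem rl2_lt : rl2.all (fun p => p.1.all fun y => Nat.blt y 8) = true := by decide +kernel

theorem rel2 {u : List ℕ} {k : Fin 48} (h : (u, k) ∈ rl2) : ev (lt b 4) u ≠ 1 := by
  have h1 := rl2_ok
  rw [List.all_eq_true] at h1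
  have h2 := rl2_lt
  rw [List.all_eq_true] at h2
  intro h3
  have h4 : ((ev (lt β 4) u : GL I52 (ZMod 2)) : Matrix I52 I52 (ZMod 2)) = 1 := by
    rw [← coe_ev_bH, ← coe_ev_b, h3]
    rfl
  rw [coe_ev (all_lt8 (h2 _ h))] at h4
  exact toMat_ne k (h1 _ h) h4

theorem orderOf_16 {G : Type*} [Group G] {g : G} (h1 : g ^ 16 = 1) (h2 : g ^ 8 ≠ 1) : orderOf g = 16 := by
  have := orderOf_eq_prime_pow (p := 2) (n := 3) (x := g) h2 h1
  simpa using this

theorem orderOf_12 {G : Type*} [Group G] {g : G} (h1 : g ^ 12 = 1) (h2 : g ^ 4 ≠ 1) (h3 : g ^ 6 ≠ 1) :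
    orderOf g = 12 := by
  have h4 : orderOf g ∣ 12 := orderOf_dvd_of_pow_eq_one h1
  have h5 : ¬ orderOf g ∣ 4 := fun h => h2 (orderOf_dvd_iff_pow_eq_one.1 h)
  have h6 : ¬ orderOf g ∣ 6 := fun h => h3 (orderOf_dvd_iff_pow_eq_one.1 h)
  have h7 : orderOf g ≤ 12 := Nat.le_of_dvd (by norm_num) h4
  generalize orderOf g = n at *
  interval_cases n <;> revert h4 h5 h6 <;> decide

/-- the elements -/
structure Els (G : Type*) [Group G] : Prop where
  o16 : ∃ g : G, orderOf g = 16
  o12 : ∃ g : G, orderOf g = 12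
  inv3 : ∃ t j : G, orderOf t = 3 ∧ orderOf j = 2 ∧ j * t * j⁻¹ = t⁻¹

theorem Els.congr {G H : Type*} [Group G] [Group H] (e : G ≃* H) (h : Els G) : Els H where
  o16 := by
    obtain ⟨g, hg⟩ := h.o16
    exact ⟨e g, by rw [e.orderOf_eq, hg]⟩
  o12 := by
    obtain ⟨g, hg⟩ := h.o12
    exact ⟨e g, by rw [e.orderOf_eq, hg]⟩
  inv3 := by
    obtain ⟨t, j, h1, h2, h3⟩ := h.inv3
    exact ⟨e t, e j, by rw [e.orderOf_eq, h1], by rw [e.orderOf_eq, h2], by
      rw [← map_mul, ← map_inv, ← map_mul, h3, map_inv]⟩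

theorem els : Els (commutator H0) where
  o16 := by
    refine ⟨ev (lt b 4) [0, 5, 6], orderOf_16 ?_ ?_⟩
    · rw [← ev_pw]; exact rel1 (by simp [rl1])
    · rw [← ev_pw]; exact rel2 (k := 8) (by simp [rl2])
  o12 := by
    refine ⟨ev (lt b 4) [0, 4, 7], orderOf_12 ?_ ?_ ?_⟩
    · rw [← ev_pw]; exact rel1 (by simp [rl1])
    · rw [← ev_pw]; exact rel2 (k := 7) (by simp [rl2])
    · rw [← ev_pw]; exact rel2 (k := 3) (by simp [rl2])
  inv3 := by
    have : Fact (Nat.Prime 2) := ⟨Nat.prime_two⟩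
    have : Fact (Nat.Prime 3) := ⟨Nat.prime_three⟩
    have hi : ev (lt b 4) iw ^ 2 = 1 := by rw [← ev_pw]; exact rel1 (by simp [rl1])
    have hj : ev (lt b 4) jw ^ 2 = 1 := by rw [← ev_pw]; exact rel1 (by simp [rl1])
    have h3 : (ev (lt b 4) iw * ev (lt b 4) jw) ^ 3 = 1 := by
      rw [← H87.TitsData.ev_append, ← ev_pw]; exact rel1 (by simp [rl1])
    have h3' : ev (lt b 4) iw * ev (lt b 4) jw ≠ 1 := by
      rw [← H87.TitsData.ev_append]; exact rel2 (k := 10) (by simp [rl2])
    have hi' : ev (lt b 4) iw ≠ 1 := rel2 (k := 10) (by simp [rl2])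
    refine ⟨ev (lt b 4) iw * ev (lt b 4) jw, ev (lt b 4) iw, orderOf_eq_prime h3 h3', orderOf_eq_prime hi hi', ?_⟩
    rw [pow_two] at hi hj
    have e1 : (ev (lt b 4) iw)⁻¹ = ev (lt b 4) iw := inv_eq_of_mul_eq_one_left hi
    have e2 : (ev (lt b 4) jw)⁻¹ = ev (lt b 4) jw := inv_eq_of_mul_eq_one_left hj
    rw [mul_inv_rev, e1, e2, ← mul_assoc, hi, one_mul]

theorem els_aux (K : Subgroup (GL I52 (ZMod 2))) (hK : K = H0) : Els (commutator K) := by
  subst hK
  exact els

theorem els_tits : Els Cfsg.Lie.TitsGroup := els_aux _ T0_eq_H0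

theorem els_of_aux {T X : Type*} [Group T] [Group X] (h : Els X) (e : T ≃* X) : Els T := h.congr e.symm

theorem els_of {T : Type*} [Group T] (h : Cfsg.Lie.IsoTits T) : Els T := by
  obtain ⟨e⟩ := h
  exact els_of_aux els_tits e

theorem conj_three_aux {S X : Type*} [Group S] [Group X] (D : Cfsg.Agent.H87.TitsAbs.Dat X)
    (hc : Nat.card X = 2 ^ 11 * 3 ^ 3 * 5 ^ 2 * 13) (e : S ≃* X) {x y : S} (hx : orderOf x = 3) (hy : orderOf y = 3) :
    IsConj x y := by
  have hfin : Finite X := Nat.finite_of_card_ne_zero (by rw [hc]; norm_num)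
  have key : ∀ w : X, orderOf w = 3 → IsConj w D.t := by
    intro w hw
    have hw1 : w ≠ 1 := by
      rintro rfl
      rw [orderOf_one] at hw
      exact absurd hw (by norm_num)
    have h3 : w ^ 3 ^ 1 = 1 := by
      rw [pow_one, ← hw, pow_orderOf_eq_one]
    obtain ⟨g, hg⟩ := Cfsg.Agent.H20.FrobTits.exists_conj_mem (a := 3) Nat.prime_three (R := D.R)
      (by rw [D.card_R]; norm_num) (by
        have h := D.R.card_mul_index
        rw [D.card_R, hc] at h
        have h4 : D.R.index = 2 ^ 11 * 5 ^ 2 * 13 := by omega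
        rw [h4]; norm_num) h3
    have h1 := D.R_isConj hg (fun h => hw1 (conj_eq_one_iff.1 h))
    exact (isConj_iff.2 ⟨g, rfl⟩).trans h1
  have h1 := key (e x) (by rw [e.orderOf_eq, hx])
  have h2 := key (e y) (by rw [e.orderOf_eq, hy])
  obtain ⟨c, hc'⟩ := isConj_iff.1 (h1.trans h2.symm)
  refine isConj_iff.2 ⟨e.symm c, ?_⟩
  apply e.injective
  rw [map_mul, map_mul, map_inv, e.apply_symm_apply, hc']

/-- the elements of order 3 are conjugate -/
theorem conj_three {S : Type*} [Group S] (h : Cfsg.Lie.IsoTits S) {x y : S} (hx : orderOf x = 3) (hy : orderOf y = 3) :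
    IsConj x y := by
  obtain ⟨e⟩ := h
  obtain ⟨D⟩ := Cfsg.Agent.H87.TitsData.dat_tits
  exact conj_three_aux D Cfsg.Agent.H87.TitsData.card_tits e hx hy

end Cfsg.Agent.H631.TitsD

private theorem dce_51cdbec581da : _root_.True := by
  try have : _root_.True := by simp only [_root_.Cfsg.Agent.H631.TitsD.rl2.eq_1]
  try have : _root_.True := by simp only [_root_.Cfsg.Agent.H631.TitsD.rl1.eq_1]
  exact _root_.True.intro
end
end
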